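import Groth.Agent.ExtShX.PnOmegaOver
import Groth.Agent.Lib.AmpleEmbed
import Mathlib

/-! # Projective space over any scheme is smooth and proper -/

set_option autoImplicit false
set_option backward.isDefEq.respectTransparency false
set_option backward.isDefEq.respectTransparency.types false

universe u

open CategoryTheory CategoryTheory.Limits AlgebraicGeometry TopologicalSpace Opposite

namespace Groth.Agent.PnSmooth7

open ExtShX.PnOmegaOver

theorem isProper_toBase (N : ℕ) (Y : Scheme.{u}) : IsProper (CohB1.ProjSpaceOver.toBase N Y) := by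
  haveI := PnCoh.Chow.isProper_toSpec N R₀.{u}
  exact MorphismProperty.pullback_snd _ _ inferInstance

theorem exists_DD (N : ℕ) (k : Type u) [CommRing k] (z : CohB1.ProjSpace N k) : ∃ i, z ∈ DD N k i := by
  exact Opens.mem_iSup.1 ((AmpleEmbed.iSup_basicOpen_X N k).ge
    (Set.mem_univ z : z ∈ (⊤ : (CohB1.ProjSpace N k).Opens)))

theorem stableAwaySource : RingHom.StableUnderCompositionWithLocalizationAwaySource fun {R S} _ _ => RingHom.Smooth (R := R) (S := S) :=
  fun _ S _ _ _ _ _ r _ _ hf =>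
    RingHom.Smooth.stableUnderComposition _ _ (RingHom.Smooth.holdsForLocalizationAway S r) hf

theorem smooth_toBase (N : ℕ) (Y : Scheme.{u}) : Smooth (CohB1.ProjSpaceOver.toBase N Y) := by
  rw [HasRingHomProperty.iff_exists_appLE (P := @Smooth)
    stableAwaySource]
  intro x
  obtain ⟨_, ⟨V, hV, rfl⟩, hxV, -⟩ := Y.isBasis_affineOpens.exists_subset_of_mem_open
    (Set.mem_univ (CohB1.ProjSpaceOver.toBase N Y x)) isOpen_univ
  obtain ⟨i, hi⟩ := exists_DD N R₀.{u} (pr N Y x)
  refine ⟨⟨V, hV⟩, ⟨UU N Y i V, isAffineOpen_UU N Y i ⟨V, hV⟩⟩, ⟨hi, hxV⟩, inf_le_right, ?_⟩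
  letI := ((CohB1.ProjSpaceOver.toBase N Y).appLE V (UU N Y i V) inf_le_right).hom.toAlgebra
  haveI : Algebra.Smooth Γ(Y, V) (MvPolynomial (Fin N) Γ(Y, V)) := ⟨inferInstance, inferInstance⟩
  exact Algebra.Smooth.of_equiv (AlgEquiv.ofBijective _ (aeval_bijective N Y i ⟨V, hV⟩))

end Groth.Agent.PnSmooth7
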